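import Cfsg.Agent.H865.L5.Base

/-!
# S5923, E1 (first part): the 31 idempotents (helper602)

`V` finite-dimensional over `ZMod 3`, `ρ : SL35 →* Module.End (ZMod 3) V`.

* `Hyp ρ` : `dim V = 248`, the elations with centre `p₀` have a fixed space of dimension 8 on which `z0² = -1`, the Sylow
  5-subgroup has no fixed vector;
* `P0` : the stabilizer of `p₀`, of index 31 (`card_quot`);
* `ep ρ` : the projection onto `fx ρ VP`; `eq ρ : SL35 ⧸ P0 → End V`, `x P0 ↦ ρ x * ep ρ * ρ x⁻¹`;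
* `eq_mul_self`, `eq_mul_of_ne`, `sum_eq` : orthogonal idempotents with sum 1.
-/

set_option autoImplicit false
set_option linter.unusedSectionVars false

open Module

namespace Cfsg.Agent.H602.L5

open Cfsg.Agent.H865.L5

/-! ### Matrices -/

theorem mul_val (x y : SL35) : (x * y).1 = x.1 * y.1 := rfl

theorem vp_mul (a b c d : ZMod 5) : vp a b * vp c d = vp (a + c) (b + d) := by
  apply Subtype.ext
  rw [mul_val]
  ext i j
  fin_cases i <;> fin_cases j <;> simp [vp, Matrix.mul_apply, Fin.sum_univ_three, add_comm]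

theorem vp_zero : vp 0 0 = 1 := by
  apply Subtype.ext
  ext i j
  fin_cases i <;> fin_cases j <;> rfl

/-- `w e₀ = e₁` -/
def ww : SL35 := ⟨!![0, -1, 0; 1, 0, 0; 0, 0, 1], by simp [Matrix.det_fin_three]⟩

theorem vp_ww (t : ZMod 5) : vp 0 t * ww = ww * us 0 0 (-t) := by
  apply Subtype.ext
  rw [mul_val, mul_val]
  ext i j
  fin_cases i <;> fin_cases j <;> simp [vp, us, ww, Matrix.mul_apply, Fin.sum_univ_three]

theorem us_eq (a b c : ZMod 5) : us a b c = us 0 0 c * vp a b := by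
  apply Subtype.ext
  rw [mul_val]
  ext i j
  fin_cases i <;> fin_cases j <;> simp [vp, us, Matrix.mul_apply, Fin.sum_univ_three]

theorem us_mul_us (c d : ZMod 5) : us 0 0 c * us 0 0 d = us 0 0 (c + d) := by
  apply Subtype.ext
  rw [mul_val]
  ext i j
  fin_cases i <;> fin_cases j <;> simp [us, Matrix.mul_apply, Fin.sum_univ_three, add_comm]

theorem vp_us (a b c : ZMod 5) : vp a b * us 0 0 c = us 0 0 c * vp a (b + a * c) := by
  apply Subtype.ext
  rw [mul_val, mul_val]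
  ext i j
  fin_cases i <;> fin_cases j <;> simp [vp, us, Matrix.mul_apply, Fin.sum_univ_three, add_comm]

/-- the stabilizer of the point `p₀ = ⟨e₀⟩` -/
def P0 : Subgroup SL35 where
  carrier := {y | y.1 1 0 = 0 ∧ y.1 2 0 = 0}
  one_mem' := ⟨rfl, rfl⟩
  mul_mem' := by
    rintro x y ⟨hx1, hx2⟩ ⟨hy1, hy2⟩
    constructor
    · show ((x.1 * y.1 : Matrix _ _ _)) 1 0 = 0
      rw [Matrix.mul_apply, Fin.sum_univ_three, hx1, hy1, hy2]
      ring
    · show ((x.1 * y.1 : Matrix _ _ _)) 2 0 = 0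
      rw [Matrix.mul_apply, Fin.sum_univ_three, hx2, hy1, hy2]
      ring
  inv_mem' := by
    rintro x ⟨hx1, hx2⟩
    constructor
    · show ((x⁻¹ : SL35) : Matrix (Fin 3) (Fin 3) (ZMod 5)) 1 0 = 0
      rw [Matrix.SpecialLinearGroup.coe_inv, Matrix.adjugate_fin_three]
      have h1 : (x : Matrix (Fin 3) (Fin 3) (ZMod 5)) 1 0 = 0 := hx1
      have h2 : (x : Matrix (Fin 3) (Fin 3) (ZMod 5)) 2 0 = 0 := hx2
      simp [h1, h2]
    · show ((x⁻¹ : SL35) : Matrix (Fin 3) (Fin 3) (ZMod 5)) 2 0 = 0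
      rw [Matrix.SpecialLinearGroup.coe_inv, Matrix.adjugate_fin_three]
      have h1 : (x : Matrix (Fin 3) (Fin 3) (ZMod 5)) 1 0 = 0 := hx1
      have h2 : (x : Matrix (Fin 3) (Fin 3) (ZMod 5)) 2 0 = 0 := hx2
      simp [h1, h2]

theorem mem_P0 {y : SL35} : y ∈ P0 ↔ y.1 1 0 = 0 ∧ y.1 2 0 = 0 := Iff.rfl

theorem conj_vp {y : SL35} (hy : y ∈ P0) (a b : ZMod 5) : ∃ a' b' : ZMod 5, y * vp a b * y⁻¹ = vp a' b' := by
  obtain ⟨hy1, hy2⟩ := hy
  obtain ⟨hz1, hz2⟩ := P0.inv_mem ⟨hy1, hy2⟩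
  set z := y⁻¹ with hz
  have hyz : y.1 * z.1 = 1 := by
    have : y * z = 1 := mul_inv_cancel y
    exact congrArg Subtype.val this
  have h : ∀ i j, y.1 i 0 * z.1 0 j + y.1 i 1 * z.1 1 j + y.1 i 2 * z.1 2 j = (1 : Matrix (Fin 3) (Fin 3) (ZMod 5)) i j := by
    intro i j
    rw [← hyz, Matrix.mul_apply, Fin.sum_univ_three]
  refine ⟨y.1 0 0 * (a * z.1 1 1 + b * z.1 2 1), y.1 0 0 * (a * z.1 1 2 + b * z.1 2 2), ?_⟩
  apply Subtype.ext
  have e : ∀ i j, (y.1 * (vp a b).1 * z.1) i j = (y.1 i 0 * z.1 0 j + y.1 i 1 * z.1 1 j + y.1 i 2 * z.1 2 j) +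
      y.1 i 0 * (a * z.1 1 j + b * z.1 2 j) := by
    intro i j
    simp [vp, Matrix.mul_apply, Fin.sum_univ_three]
    ring
  show y.1 * (vp a b).1 * z.1 = _
  ext i j
  rw [e, h]
  fin_cases i <;> fin_cases j <;> simp [vp, hy1, hy2, hz1, hz2]

/-- elements outside `P0` -/
theorem exists_bruhat {x : SL35} (hx : x ∉ P0) : ∃ y ∈ P0, ∃ y' ∈ P0, x = y * ww * y' := by
  have key : ∀ y : SL35, y ∈ P0 → (∀ i, (y.1 * ww.1) i 0 = x.1 i 0) → ∃ y ∈ P0, ∃ y' ∈ P0, x = y * ww * y' := by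
    intro y hy h
    refine ⟨y, hy, (y * ww)⁻¹ * x, ?_, by group⟩
    have h1 : ∀ i, (((y * ww)⁻¹ * x : SL35) : Matrix (Fin 3) (Fin 3) (ZMod 5)) i 0 =
        (1 : Matrix (Fin 3) (Fin 3) (ZMod 5)) i 0 := by
      intro i
      have h2 : (((y * ww)⁻¹ * x : SL35) : Matrix (Fin 3) (Fin 3) (ZMod 5)) i 0 =
          ((((y * ww)⁻¹ : SL35) : Matrix (Fin 3) (Fin 3) (ZMod 5)) * (y * ww : SL35)) i 0 := by
        show (_ * _ : Matrix (Fin 3) (Fin 3) (ZMod 5)) i 0 = _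
        rw [Matrix.mul_apply, Matrix.mul_apply]
        refine Finset.sum_congr rfl fun j _ => ?_
        congr 1
        exact (h j).symm
      rw [h2]
      have h3 : (y * ww)⁻¹ * (y * ww) = 1 := inv_mul_cancel _
      exact congrFun (congrFun (congrArg Subtype.val h3) i) 0
    exact ⟨h1 1, h1 2⟩
  by_cases hv : x.1 1 0 = 0
  · have hv2 : x.1 2 0 ≠ 0 := fun h => hx ⟨hv, h⟩
    refine key ⟨!![-(x.1 2 0)⁻¹, x.1 0 0, 0; 0, x.1 1 0, 1; 0, x.1 2 0, 0], ?_⟩ ⟨rfl, rfl⟩ fun i => ?_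
    · rw [Matrix.det_fin_three]
      simp [hv2]
    · fin_cases i <;> simp [ww, Matrix.mul_apply, Fin.sum_univ_three]
  · refine key ⟨!![(x.1 1 0)⁻¹, x.1 0 0, 0; 0, x.1 1 0, 0; 0, x.1 2 0, 1], ?_⟩ ⟨rfl, rfl⟩ fun i => ?_
    · rw [Matrix.det_fin_three]
      simp [hv]
    · fin_cases i <;> simp [ww, Matrix.mul_apply, Fin.sum_univ_three]

/-! ### The index of `P0` -/

/-- normalization of a vector -/
def nv (v : Fin 3 → ZMod 5) : Fin 3 → ZMod 5 :=
  if v 0 ≠ 0 then fun i => (v 0)⁻¹ * v i else if v 1 ≠ 0 then fun i => (v 1)⁻¹ * v i else fun i => (v 2)⁻¹ * v i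

theorem nv_eq (v : Fin 3 → ZMod 5) (hv : v ≠ 0) : ∃ c : ZMod 5, c ≠ 0 ∧ ∀ i, v i = c * nv v i := by
  unfold nv
  split_ifs with h0 h1
  · exact ⟨v 0, h0, fun i => by field_simp⟩
  · exact ⟨v 1, h1, fun i => by field_simp⟩
  · have h2 : v 2 ≠ 0 := by
      intro h2
      apply hv
      push Not at h0 h1
      funext i
      fin_cases i
      · exact h0
      · exact h1
      · exact h2
    exact ⟨v 2, h2, fun i => by field_simp⟩

theorem nv_smul (v : Fin 3 → ZMod 5) {c : ZMod 5} (hc : c ≠ 0) : nv (fun i => c * v i) = nv v := by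
  unfold nv
  by_cases h0 : v 0 = 0
  · by_cases h1 : v 1 = 0
    · by_cases h2 : v 2 = 0
      · simp [h0, h1, h2]
      · simp only [h0, h1, mul_zero, ne_eq, not_true_eq_false, if_false]
        funext i
        field_simp
    · simp only [h0, mul_zero, ne_eq, not_true_eq_false, if_false, mul_eq_zero, hc, h1, or_self, not_false_eq_true, if_true]
      funext i
      field_simp
  · simp only [ne_eq, mul_eq_zero, hc, h0, or_self, not_false_eq_true, if_true]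
    funext i
    field_simp

/-- the point `x p₀` -/
def pt (x : SL35) : Fin 3 → ZMod 5 := nv fun i => x.1 i 0

theorem col_ne (x : SL35) : (fun i => x.1 i 0) ≠ 0 := by
  intro h
  have h1 := x.2
  rw [Matrix.det_fin_three] at h1
  have e : ∀ i, x.1 i 0 = 0 := fun i => congrFun h i
  rw [e 0, e 1, e 2] at h1
  simp at h1

theorem col_mul (x y : SL35) (i : Fin 3) : (x * y).1 i 0 = x.1 i 0 * y.1 0 0 + x.1 i 1 * y.1 1 0 + x.1 i 2 * y.1 2 0 := by
  show (x.1 * y.1) i 0 = _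
  rw [Matrix.mul_apply, Fin.sum_univ_three]

theorem pt_eq_iff (x y : SL35) : pt x = pt y ↔ x⁻¹ * y ∈ P0 := by
  constructor
  · intro h
    obtain ⟨c, hc, h1⟩ := nv_eq _ (col_ne x)
    obtain ⟨d, hd, h2⟩ := nv_eq _ (col_ne y)
    have h3 : ∀ i, y.1 i 0 = d * c⁻¹ * x.1 i 0 := by
      intro i
      have h4 := h1 i
      have h5 := h2 i
      have h6 : nv (fun i => x.1 i 0) i = nv (fun i => y.1 i 0) i := congrFun h i
      rw [h5, h4, ← h6]
      field_simp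
    have h7 : ∀ i, (x⁻¹ * y).1 i 0 = d * c⁻¹ * (1 : Matrix (Fin 3) (Fin 3) (ZMod 5)) i 0 := by
      intro i
      have h8 : (x⁻¹ * x).1 i 0 = (1 : Matrix (Fin 3) (Fin 3) (ZMod 5)) i 0 := by
        rw [inv_mul_cancel]; rfl
      rw [← h8, col_mul, col_mul, h3 0, h3 1, h3 2]
      ring
    rw [mem_P0, h7, h7]
    simp
  · rintro ⟨h1, h2⟩
    have h3 : ∀ i, y.1 i 0 = (x⁻¹ * y).1 0 0 * x.1 i 0 := by
      intro i
      have h4 : y = x * (x⁻¹ * y) := by group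
      conv_lhs => rw [h4]
      rw [col_mul x (x⁻¹ * y), h1, h2]
      ring
    have h5 : (x⁻¹ * y).1 0 0 ≠ 0 := by
      intro h6
      apply col_ne y
      funext i
      show y.1 i 0 = 0
      rw [h3, h6, zero_mul]
    have h7 : (fun i => y.1 i 0) = fun i => (x⁻¹ * y).1 0 0 * (fun i => x.1 i 0) i := funext h3
    show nv _ = nv _
    rw [h7, nv_smul _ h5]

/-- the normalized vectors -/
def pts : Finset (Fin 3 → ZMod 5) := Finset.univ.filter fun v => nv v = v ∧ v ≠ 0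

theorem card_pts : pts.card = 31 := by decide +kernel

theorem pt_mem (x : SL35) : pt x ∈ pts := by
  have h0 := col_ne x
  obtain ⟨c, hc, h1⟩ := nv_eq _ h0
  rw [pts, Finset.mem_filter]
  refine ⟨Finset.mem_univ _, ?_, ?_⟩
  · have h2 : (fun i => x.1 i 0) = fun i => c * pt x i := funext h1
    conv_rhs => rw [pt, h2, nv_smul _ hc]
  · intro h
    apply h0
    funext i
    show x.1 i 0 = 0
    have h2 : nv (fun i => x.1 i 0) i = 0 := congrFun h i
    rw [h1 i, h2, mul_zero]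

theorem exists_pt {v : Fin 3 → ZMod 5} (hv : v ∈ pts) : ∃ x : SL35, pt x = v := by
  rw [pts, Finset.mem_filter] at hv
  obtain ⟨-, h1, h2⟩ := hv
  have key : ∀ x : SL35, (∀ i, x.1 i 0 = v i) → ∃ x : SL35, pt x = v := by
    intro x hx
    refine ⟨x, ?_⟩
    have : (fun i => x.1 i 0) = v := funext hx
    rw [pt, this, h1]
  by_cases h0 : v 0 = 0
  · by_cases h3 : v 1 = 0
    · have h4 : v 2 ≠ 0 := by
        intro h4
        apply h2
        funext i
        fin_cases i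
        · exact h0
        · exact h3
        · exact h4
      refine key ⟨!![v 0, (v 2)⁻¹, 0; v 1, 0, 1; v 2, 0, 0], ?_⟩ fun i => ?_
      · rw [Matrix.det_fin_three]
        simp [h4]
      · fin_cases i <;> rfl
    · refine key ⟨!![v 0, -(v 1)⁻¹, 0; v 1, 0, 0; v 2, 0, 1], ?_⟩ fun i => ?_
      · rw [Matrix.det_fin_three]
        simp [h3]
      · fin_cases i <;> rfl
  · refine key ⟨!![v 0, 0, 0; v 1, (v 0)⁻¹, 0; v 2, 0, 1], ?_⟩ fun i => ?_
    · rw [Matrix.det_fin_three]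
      simp [h0]
    · fin_cases i <;> rfl

/-- the cosets of `P0` are the points -/
noncomputable def quotEquiv : SL35 ⧸ P0 ≃ pts := by
  refine Equiv.ofBijective (fun q => Quotient.liftOn' q (fun x => (⟨pt x, pt_mem x⟩ : pts)) ?_) ⟨?_, ?_⟩
  · intro x y hxy
    apply Subtype.ext
    exact (pt_eq_iff x y).2 (QuotientGroup.leftRel_apply.1 hxy)
  · intro q q'
    refine Quotient.inductionOn₂' q q' fun x y h => ?_
    apply Quotient.sound'
    rw [QuotientGroup.leftRel_apply]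
    exact (pt_eq_iff x y).1 (congrArg Subtype.val h)
  · rintro ⟨v, hv⟩
    obtain ⟨x, rfl⟩ := exists_pt hv
    exact ⟨(x : SL35 ⧸ P0), rfl⟩

theorem card_quot : Nat.card (SL35 ⧸ P0) = 31 := by
  rw [Nat.card_congr quotEquiv, Nat.card_eq_fintype_card, Fintype.card_coe, card_pts]

instance : Finite (SL35 ⧸ P0) := Finite.of_equiv _ quotEquiv.symm

noncomputable instance instFintypeQuot : Fintype (SL35 ⧸ P0) := Fintype.ofFinite _

/-! ### The projections -/

section Rep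

variable {V : Type*} [AddCommGroup V] [Module (ZMod 3) V]

/-- the fixed vectors of a set of elements -/
def fx (ρ : SL35 →* Module.End (ZMod 3) V) (S : Set SL35) : Submodule (ZMod 3) V where
  carrier := {v | ∀ g ∈ S, ρ g v = v}
  zero_mem' := fun g _ => map_zero _
  add_mem' := fun {a b} ha hb g hg => by rw [map_add, ha g hg, hb g hg]
  smul_mem' := fun c a ha g hg => by rw [map_smul, ha g hg]

theorem mem_fx {ρ : SL35 →* Module.End (ZMod 3) V} {S : Set SL35} {v : V} : v ∈ fx ρ S ↔ ∀ g ∈ S, ρ g v = v := Iff.rfl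

/-- the hypotheses -/
structure Hyp (ρ : SL35 →* Module.End (ZMod 3) V) : Prop where
  dimV : finrank (ZMod 3) V = 248
  dim : finrank (ZMod 3) (fx ρ VP) = 8
  zz : ∀ v ∈ fx ρ VP, ρ z0 (ρ z0 v) = -v
  fixS : ∀ v ∈ fx ρ US, v = 0

variable (ρ : SL35 →* Module.End (ZMod 3) V)

theorem rho_mul (g h : SL35) (v : V) : ρ (g * h) v = ρ g (ρ h v) := by
  rw [map_mul]; rfl

/-- the projection onto the fixed vectors of `VP` -/
def ep : Module.End (ZMod 3) V := ∑ ab : ZMod 5 × ZMod 5, ρ (vp ab.1 ab.2)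

theorem ep_apply (v : V) : ep ρ v = ∑ ab : ZMod 5 × ZMod 5, ρ (vp ab.1 ab.2) v := by
  rw [ep, LinearMap.sum_apply]

theorem ep_mem (v : V) : ep ρ v ∈ fx ρ VP := by
  rintro _ ⟨a, b, rfl⟩
  rw [ep_apply, map_sum]
  refine Fintype.sum_equiv (Equiv.addLeft (a, b)) _ _ fun ab => ?_
  rw [← rho_mul, vp_mul]
  rfl

theorem nat_smul_eq (n : ℕ) (hn : (n : ZMod 3) = 1) (v : V) : n • v = v := by
  rw [← Nat.cast_smul_eq_nsmul (ZMod 3), hn, one_smul]

theorem ep_of_mem {v : V} (hv : v ∈ fx ρ VP) : ep ρ v = v := by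
  rw [ep_apply, Finset.sum_congr rfl fun ab _ => hv _ ⟨ab.1, ab.2, rfl⟩, Finset.sum_const, Finset.card_univ]
  exact nat_smul_eq _ (by decide) v

theorem ep_mul_self : ep ρ * ep ρ = ep ρ := by
  ext v
  exact ep_of_mem ρ (ep_mem ρ v)

theorem range_ep : LinearMap.range (ep ρ) = fx ρ VP := by
  ext v
  rw [LinearMap.mem_range]
  exact ⟨fun ⟨w, hw⟩ => hw ▸ ep_mem ρ w, fun hv => ⟨v, ep_of_mem ρ hv⟩⟩

theorem map_mem_fx {y : SL35} (hy : y ∈ P0) {v : V} (hv : v ∈ fx ρ VP) : ρ y v ∈ fx ρ VP := by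
  rintro _ ⟨a, b, rfl⟩
  obtain ⟨a', b', h⟩ := conj_vp (P0.inv_mem hy) a b
  rw [inv_inv] at h
  have e : vp a b * y = y * vp a' b' := by rw [← h]; group
  rw [← rho_mul, e, rho_mul, hv _ ⟨a', b', rfl⟩]

theorem comm_ep {y : SL35} (hy : y ∈ P0) : ρ y * ep ρ = ep ρ * ρ y := by
  classical
  have hne : ∀ ab : ZMod 5 × ZMod 5, ∃ cd : ZMod 5 × ZMod 5, y * vp ab.1 ab.2 * y⁻¹ = vp cd.1 cd.2 := fun ab => by
    obtain ⟨a', b', h⟩ := conj_vp hy ab.1 ab.2
    exact ⟨(a', b'), h⟩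
  choose c hc using hne
  have hvinj : ∀ ab cd : ZMod 5 × ZMod 5, vp ab.1 ab.2 = vp cd.1 cd.2 → ab = cd := by
    intro ab cd h
    have h1 := congrFun (congrFun (congrArg Subtype.val h) 0) 1
    have h2 := congrFun (congrFun (congrArg Subtype.val h) 0) 2
    exact Prod.ext h1 h2
  have hinj : Function.Injective c := by
    intro ab cd h
    apply hvinj
    have h1 := (hc ab).trans ((congrArg (fun q : ZMod 5 × ZMod 5 => vp q.1 q.2) h).trans (hc cd).symm)
    exact mul_left_cancel (mul_right_cancel h1)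
  have hbij : Function.Bijective c := Finite.injective_iff_bijective.1 hinj
  rw [ep, Finset.mul_sum, Finset.sum_mul]
  refine Fintype.sum_equiv (Equiv.ofBijective c hbij) _ _ fun ab => ?_
  rw [← map_mul, ← map_mul]
  congr 1
  show y * vp ab.1 ab.2 = vp (c ab).1 (c ab).2 * y
  rw [← hc ab]
  group

/-- the sum over a transvection group is zero on the fixed vectors of `VP` -/
theorem sum_us {ρ : SL35 →* Module.End (ZMod 3) V} (h : ∀ v ∈ fx ρ US, v = 0) {v : V} (hv : v ∈ fx ρ VP) :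
    ∑ c : ZMod 5, ρ (us 0 0 c) v = 0 := by
  apply h
  rintro _ ⟨a, b, c, rfl⟩
  rw [us_eq, rho_mul]
  have h1 : ρ (vp a b) (∑ d : ZMod 5, ρ (us 0 0 d) v) = ∑ d : ZMod 5, ρ (us 0 0 d) v := by
    rw [map_sum]
    refine Finset.sum_congr rfl fun d _ => ?_
    rw [← rho_mul, vp_us, rho_mul, hv _ ⟨_, _, rfl⟩]
  rw [h1, map_sum]
  refine Fintype.sum_equiv (Equiv.addLeft c) _ _ fun d => ?_
  rw [← rho_mul, us_mul_us]
  rfl

theorem ep_ww {ρ : SL35 →* Module.End (ZMod 3) V} (h : ∀ v ∈ fx ρ US, v = 0) {v : V} (hv : v ∈ fx ρ VP) :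
    ep ρ (ρ ww v) = 0 := by
  rw [ep_apply, Fintype.sum_prod_type]
  refine Finset.sum_eq_zero fun a _ => ?_
  have h1 : ∀ b : ZMod 5, ρ (vp a b) (ρ ww v) = ρ (vp a 0 * ww) (ρ (us 0 0 (-b)) v) := by
    intro b
    have h2 : vp a b = vp a 0 * vp 0 b := by rw [vp_mul, add_zero, zero_add]
    rw [← rho_mul, ← rho_mul, h2, mul_assoc, vp_ww, mul_assoc]
  rw [Finset.sum_congr rfl fun b _ => h1 b, ← map_sum]
  have h3 : ∑ b : ZMod 5, ρ (us 0 0 (-b)) v = ∑ b : ZMod 5, ρ (us 0 0 b) v :=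
    Fintype.sum_equiv (Equiv.neg _) _ _ fun b => rfl
  rw [h3, sum_us h hv, map_zero]

theorem ep_mul_ep {ρ : SL35 →* Module.End (ZMod 3) V} (h : ∀ v ∈ fx ρ US, v = 0) {x : SL35} (hx : x ∉ P0) :
    ep ρ * ρ x * ep ρ = 0 := by
  obtain ⟨y, hy, y', hy', rfl⟩ := exists_bruhat hx
  ext v
  show ep ρ (ρ (y * ww * y') (ep ρ v)) = 0
  have h1 : ρ y' (ep ρ v) ∈ fx ρ VP := map_mem_fx ρ hy' (ep_mem ρ v)
  have h2 := congrArg (fun f : Module.End (ZMod 3) V => f (ρ ww (ρ y' (ep ρ v)))) (comm_ep ρ hy)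
  rw [rho_mul, rho_mul]
  refine h2.symm.trans ?_
  show ρ y (ep ρ (ρ ww (ρ y' (ep ρ v)))) = 0
  rw [ep_ww h h1, map_zero]

/-! ### The 31 idempotents -/

theorem rho_inv_mul (x : SL35) : ρ x⁻¹ * ρ x = 1 := by rw [← map_mul, inv_mul_cancel, map_one]

theorem rho_mul_inv (x : SL35) : ρ x * ρ x⁻¹ = 1 := by rw [← map_mul, mul_inv_cancel, map_one]

/-- the idempotent of the point `q` -/
def eq (q : SL35 ⧸ P0) : Module.End (ZMod 3) V :=
  Quotient.liftOn' q (fun x => ρ x * ep ρ * ρ x⁻¹) (by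
    intro x y hxy
    have h := QuotientGroup.leftRel_apply.1 hxy
    obtain ⟨z, hz⟩ : ∃ z, z = x⁻¹ * y := ⟨_, rfl⟩
    have e : y = x * z := by rw [hz]; group
    show ρ x * ep ρ * ρ x⁻¹ = ρ y * ep ρ * ρ y⁻¹
    have h1 : ρ z * ep ρ = ep ρ * ρ z := comm_ep ρ (hz ▸ h)
    subst e
    rw [map_mul, mul_assoc (ρ x) (ρ z), h1, mul_inv_rev, map_mul ρ z⁻¹]
    calc ρ x * ep ρ * ρ x⁻¹ = ρ x * ep ρ * (ρ z * ρ z⁻¹) * ρ x⁻¹ := by rw [rho_mul_inv, mul_one]
      _ = _ := by simp only [mul_assoc])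

theorem eq_mk (x : SL35) : eq ρ (x : SL35 ⧸ P0) = ρ x * ep ρ * ρ x⁻¹ := rfl

theorem eq_one : eq ρ ((1 : SL35) : SL35 ⧸ P0) = ep ρ := by
  rw [eq_mk, inv_one, map_one, one_mul, mul_one]

theorem eq_smul (g : SL35) (q : SL35 ⧸ P0) : ρ g * eq ρ q = eq ρ (g • q) * ρ g := by
  obtain ⟨x, rfl⟩ := QuotientGroup.mk_surjective q
  show ρ g * (ρ x * ep ρ * ρ x⁻¹) = (ρ (g * x) * ep ρ * ρ (g * x)⁻¹) * ρ g
  rw [mul_inv_rev, map_mul, map_mul ρ x⁻¹]
  rw [mul_assoc _ _ (ρ g), mul_assoc (ρ x⁻¹), rho_inv_mul, mul_one]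
  simp only [mul_assoc]

theorem eq_mul_self (q : SL35 ⧸ P0) : eq ρ q * eq ρ q = eq ρ q := by
  obtain ⟨x, rfl⟩ := QuotientGroup.mk_surjective q
  rw [eq_mk]
  calc ρ x * ep ρ * ρ x⁻¹ * (ρ x * ep ρ * ρ x⁻¹) = ρ x * ep ρ * (ρ x⁻¹ * ρ x) * ep ρ * ρ x⁻¹ := by
        simp only [mul_assoc]
    _ = ρ x * (ep ρ * ep ρ) * ρ x⁻¹ := by rw [rho_inv_mul, mul_one]; simp only [mul_assoc]
    _ = _ := by rw [ep_mul_self]

theorem eq_mul_of_ne {ρ : SL35 →* Module.End (ZMod 3) V} (h : ∀ v ∈ fx ρ US, v = 0) {q q' : SL35 ⧸ P0} (hq : q ≠ q') :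
    eq ρ q * eq ρ q' = 0 := by
  obtain ⟨x, rfl⟩ := QuotientGroup.mk_surjective q
  obtain ⟨y, rfl⟩ := QuotientGroup.mk_surjective q'
  have hx : x⁻¹ * y ∉ P0 := fun h => hq (QuotientGroup.eq.2 h)
  rw [eq_mk, eq_mk]
  calc ρ x * ep ρ * ρ x⁻¹ * (ρ y * ep ρ * ρ y⁻¹) = ρ x * (ep ρ * (ρ x⁻¹ * ρ y) * ep ρ) * ρ y⁻¹ := by
        simp only [mul_assoc]
    _ = 0 := by rw [← map_mul, ep_mul_ep h hx, mul_zero, zero_mul]

theorem finrank_range_eq (q : SL35 ⧸ P0) :
    finrank (ZMod 3) (LinearMap.range (eq ρ q)) = finrank (ZMod 3) (fx ρ VP) := by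
  obtain ⟨x, rfl⟩ := QuotientGroup.mk_surjective q
  rw [eq_mk]
  let e : V ≃ₗ[ZMod 3] V := LinearEquiv.ofLinearMap (ρ x) (ρ x⁻¹) (rho_mul_inv ρ x) (rho_inv_mul ρ x)
  have h1 : LinearMap.range (ρ x * ep ρ * ρ x⁻¹) = (fx ρ VP).map (e : V →ₗ[ZMod 3] V) := by
    rw [← range_ep]
    ext v
    rw [LinearMap.mem_range, Submodule.mem_map]
    constructor
    · rintro ⟨w, rfl⟩
      exact ⟨ep ρ (ρ x⁻¹ w), ⟨_, rfl⟩, rfl⟩
    · rintro ⟨_, ⟨w, rfl⟩, rfl⟩
      refine ⟨ρ x w, ?_⟩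
      show ρ x (ep ρ (ρ x⁻¹ (ρ x w))) = ρ x (ep ρ w)
      rw [← rho_mul, inv_mul_cancel, map_one]
      rfl
  rw [h1]
  exact LinearEquiv.finrank_map_eq e _

/-- orthogonal idempotents of total rank `dim V` -/
theorem sum_eq_one_of_finrank {k : Type*} [Field k] {V : Type*} [AddCommGroup V] [Module k V] [FiniteDimensional k V]
    {ι : Type*} [Fintype ι] (e : ι → Module.End k V) (h1 : ∀ i, e i * e i = e i) (h2 : ∀ i j, i ≠ j → e i * e j = 0)
    (h3 : ∑ i, finrank k (LinearMap.range (e i)) = finrank k V) : ∑ i, e i = 1 := by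
  classical
  let φ : V →ₗ[k] ∀ i, LinearMap.range (e i) := LinearMap.pi fun i => (e i).rangeRestrict
  have hφ : ∀ v i, ((φ v i : LinearMap.range (e i)) : V) = e i v := fun _ _ => rfl
  have hsurj : Function.Surjective φ := by
    intro w
    choose u hu using fun i => (w i).2
    refine ⟨∑ i, e i (u i), ?_⟩
    funext i
    apply Subtype.ext
    rw [hφ, map_sum, Finset.sum_eq_single i]
    · have := congrArg (fun f : Module.End k V => f (u i)) (h1 i)
      exact this.trans (hu i)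
    · intro j _ hj
      exact congrArg (fun f : Module.End k V => f (u j)) (h2 i j hj.symm)
    · intro h; exact absurd (Finset.mem_univ _) h
  have hfr : finrank k V = finrank k (∀ i, LinearMap.range (e i)) := by
    rw [Module.finrank_pi_fintype]
    exact h3.symm
  have hinj : Function.Injective φ := (LinearMap.injective_iff_surjective_of_finrank_eq_finrank hfr).2 hsurj
  ext v
  apply hinj
  funext i
  apply Subtype.ext
  rw [hφ, hφ, LinearMap.sum_apply, map_sum, Finset.sum_eq_single i]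
  · exact congrArg (fun f : Module.End k V => f v) (h1 i)
  · intro j _ hj
    exact congrArg (fun f : Module.End k V => f v) (h2 i j hj.symm)
  · intro h; exact absurd (Finset.mem_univ _) h

theorem sum_eq [FiniteDimensional (ZMod 3) V] {ρ : SL35 →* Module.End (ZMod 3) V} (h : Hyp ρ) :
    ∑ q : SL35 ⧸ P0, eq ρ q = 1 := by
  refine sum_eq_one_of_finrank _ (eq_mul_self ρ) (fun q q' hq => eq_mul_of_ne h.fixS hq) ?_
  rw [Finset.sum_congr rfl fun q _ => finrank_range_eq ρ q, Finset.sum_const, Finset.card_univ,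
    ← Nat.card_eq_fintype_card, card_quot, h.dim, h.dimV]
  rfl

/-- decomposition of a vector -/
theorem sum_eq_apply [FiniteDimensional (ZMod 3) V] {ρ : SL35 →* Module.End (ZMod 3) V} (h : Hyp ρ) (v : V) :
    ∑ q : SL35 ⧸ P0, eq ρ q v = v := by
  have h1 := congrArg (fun f : Module.End (ZMod 3) V => f v) (sum_eq h)
  refine Eq.trans ?_ h1
  show _ = (∑ q : SL35 ⧸ P0, eq ρ q) v
  rw [LinearMap.sum_apply]

theorem eq_apply_eq (x : SL35) (v : V) : eq ρ (x : SL35 ⧸ P0) v = ρ x (ep ρ (ρ x⁻¹ v)) := rfl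

end Rep

/-! ### Good homomorphisms -/

theorem card_idx : Fintype.card Cfsg.Lie.chevE8.Idx = 248 := by decide +kernel

theorem finrank_idx : finrank (ZMod 3) (Cfsg.Lie.chevE8.Idx → ZMod 3) = 248 := by
  rw [Module.finrank_fintype_fun_eq_card, card_idx]

/-- the representation of `SL₃(5)` defined by `f` -/
noncomputable def rp (f : SL35 →* G3) : SL35 →* Module.End (ZMod 3) (Cfsg.Lie.chevE8.Idx → ZMod 3) where
  toFun x := ac (f x)
  map_one' := by
    apply LinearMap.ext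
    intro v
    rw [map_one, ac_one]
    rfl
  map_mul' x y := by
    apply LinearMap.ext
    intro v
    rw [map_mul, ac_mul]
    rfl

theorem rp_apply (f : SL35 →* G3) (x : SL35) (v : Cfsg.Lie.chevE8.Idx → ZMod 3) : rp f x v = ac (f x) v := rfl

theorem fx_rp (f : SL35 →* G3) (S : Set SL35) : fx (rp f) S = Fx (f '' S) := by
  ext v
  rw [mem_fx, mem_Fx]
  constructor
  · rintro h _ ⟨g, hg, rfl⟩
    exact h g hg
  · intro h g hg
    exact h _ ⟨g, hg, rfl⟩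

theorem hyp_rp {f : SL35 →* G3} (h : Good f) : Hyp (rp f) where
  dimV := finrank_idx
  dim := by rw [fx_rp]; exact h.dim
  zz v hv := h.zz v (by rw [← fx_rp]; exact hv)
  fixS v hv := h.fixS v (by rw [← fx_rp]; exact hv)

end Cfsg.Agent.H602.L5
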